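import Cfsg.Agent.H23.NS.CtxThree
import Cfsg.Agent.H275.NSX

/-!
# The hypotheses `VV` for `p = 3`, `q = 5`
-/

set_option autoImplicit false
set_option linter.unusedSectionVars false

namespace Cfsg.Agent.H23.NS

open Subgroup
open Cfsg (IsComponent IsComponentOf IsQuasisimple IsElementaryAbelian piCoreOf IsSignalizerFunctor signalizerInf)
open Cfsg.Agent.H9.NS
open Cfsg.Agent.H309.NS (Mem good_three nearS_three MinC)
open Cfsg.Agent.H275.NS (NearS DD VV)

universe u

variable {G : Type u} [Group G] [Finite G] [Fact (Nat.Prime 3)] {A V : Subgroup G} {θ : G → Subgroup G}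

theorem vv_three (hn : NearS 3 A θ) (hV : Mem 3 A θ V) : VV 3 5 A V where
  elem := hn.elem
  inv := hV.inv
  cop := hV.cop
  good := good_three hV.cop
  solv := H275.NS.solv_inf_centralizer hn hV
  qp := by norm_num
  ns := H17.NS.allNS_three hV.cop
  nx := H275.NS.allNX_three hV.cop
  kq := kq_three hV.cop
  um s hs h5 h3 := H17.NS.unMk_three hV.cop h5
  zc L hL := zq_three hV.cop hL

end Cfsg.Agent.H23.NS
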